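import Groth.Agent.Lib.CurveSlope
import Groth.Agent.DimFormula.DedekindFlat
import Groth.Agent.FibDim.LocDim
import Groth.Agent.CurveCohLib.Skyscraper

/-! Subsheaves on regular integral curves. -/

noncomputable section

set_option linter.style.haveILetI false
set_option linter.unusedSectionVars false
set_option backward.isDefEq.respectTransparency false
set_option backward.isDefEq.respectTransparency.types false

universe u

open CategoryTheory CategoryTheory.Limits AlgebraicGeometry TopologicalSpace

namespace Groth.Agent.CurveExt.RegularSub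

open Groth.Agent Groth.Agent.CurveBundle Groth.Agent.CurveSlope

variable (k : Type u) [Field k] {X : Scheme.{u}} [X.Over (Spec (CommRingCat.of k))] [IsIntegral X]
  [IsProper (X ↘ Spec (CommRingCat.of k))]

include k in
theorem isPrincipalIdealRing_stalk (hdim : topologicalKrullDim X ≤ 1)
    (hreg : ∀ x : X, IsRegularLocalRing (X.presheaf.stalk x)) (x : X) :
    IsPrincipalIdealRing (X.presheaf.stalk x) := by
  haveI := isLocallyNoetherian' k (X := X)
  haveI := hreg x
  refine DimFormula.isPrincipalIdealRing_of_regular_dim_le_one ?_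
  rw [DimFormula.ringKrullDim_stalk]
  exact le_trans ((le_iSup (fun y : X => ((DimFormula.codim y : ℕ∞) : WithBot ℕ∞)) x).trans
    FibDim.topologicalKrullDim_eq_iSup_codim.ge) hdim

include k in
/-- A coherent subsheaf of a locally free sheaf is locally free. -/
theorem isFinLocFree_of_mono (hdim : topologicalKrullDim X ≤ 1)
    (hreg : ∀ x : X, IsRegularLocalRing (X.presheaf.stalk x)) {K E : X.Modules} (i : K ⟶ E) [Mono i]
    (hK : Coh.IsCoh K) (hE : FlatMod.IsFinLocFree E) : FlatMod.IsFinLocFree K := by
  haveI := isLocallyNoetherian' k (X := X)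
  refine QCoh.isFinLocFree_iff.2 ⟨QCoh.isCoh_iff_isFP.1 hK, fun x => ?_⟩
  haveI := isPrincipalIdealRing_stalk k hdim hreg x
  exact free_stalk_of_mono i hE x

/-- Degrees do not drop when enlarging a module in the same generic rank. -/
theorem dg_le_of_mono (hdim : topologicalKrullDim X = 1) {A B : X.Modules} (j : A ⟶ B) [Mono j]
    (hA : Coh.IsCoh A) (hB : Coh.IsCoh B) (hrk : rk A = rk B) : dg k A ≤ dg k B := by
  haveI := CurveCohLib.isNoetherian_of_proper (k := k) (X := X)
  have hQ : Coh.IsCoh (cokernel j) := QCoh.isCoh_cokernel hA.1 hB j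
  have hS := shortExact_cokernel_of_mono j
  have h0 : rk (cokernel j) = 0 := by
    have := rk_add_coh k j (cokernel.π j) (cokernel.condition j) hS hB
    omega
  have hcl : ∀ x ∈ CohB1.support (cokernel j), IsClosed ({x} : Set X) := fun x hx => by
    by_contra hc
    refine hx ?_
    rw [CurveCohLib.eq_genericPoint_of_not_isClosed hdim hc]
    letI := (isField_stalk_generic (X := X)).toField
    haveI := finite_stalk_of_coh hQ (genericPoint X)
    exact Module.finrank_zero_iff.1 h0
  have hadd := dg_add k j (cokernel.π j) (cokernel.condition j) hS hA hB hQ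
  have hQd : dg k (cokernel j) = Curv2.euler k X (cokernel j) := by
    unfold dg
    rw [h0]
    simp
  rw [hadd, hQd, CurveCohLib.euler_eq_finrank_zero hQ hcl]
  omega

/-- A nonzero map to an invertible module factors through an invertible module of no larger degree. -/
theorem exists_image_invertible (hdim : topologicalKrullDim X = 1)
    (hreg : ∀ x : X, IsRegularLocalRing (X.presheaf.stalk x)) {A M : X.Modules} (hA : Coh.IsCoh A)
    (hM : PicF.IsInvertible M) (a : A ⟶ M) (ha : a ≠ 0) :
    ∃ (I : X.Modules) (π : A ⟶ I), Epi π ∧ PicF.IsInvertible I ∧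
      Curv2.deg k X I 1 ≤ Curv2.deg k X M 1 := by
  haveI := CurveCohLib.isNoetherian_of_proper (k := k) (X := X)
  have hM1 := InvEnd.isFinLocFreeOfRank_one hM
  have hMf : FlatMod.IsFinLocFree M := fun y => let ⟨W, hy, he⟩ := hM1 y; ⟨W, 1, hy, he⟩
  have hMc := CurveDeg.isCoh_of_isFinLocFree hMf
  obtain ⟨I, π, j, hj, hfac, -, hI, hπ, -⟩ := exists_factor hA hMc a
  have hIf := isFinLocFree_of_mono k hdim.le hreg j hI hMf
  have hr : rk I + rk (cokernel j) = rk M :=
    (rk_add_coh k j (cokernel.π j) (cokernel.condition j) (shortExact_cokernel_of_mono j) hMc).symm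
  rw [rk_eq hM1] at hr
  have hr0 : rk I ≠ 0 := fun h0 => ha (by rw [← hfac, (isZero_of_rk_zero hIf h0).eq_of_tgt π 0, zero_comp])
  have hI1 : FlatMod.IsFinLocFreeOfRank 1 I := by
    have := isFinLocFreeOfRank_rk hIf
    rwa [show rk I = 1 by omega] at this
  refine ⟨I, π, hπ, fun x => let ⟨U, hx, ⟨e⟩⟩ := hI1 x; ⟨U, hx, ⟨e ≪≫ coproductUniqueIso _⟩⟩, ?_⟩
  rw [deg_eq_dg k hI1, deg_eq_dg k hM1]
  exact dg_le_of_mono k hdim j hI hMc (by rw [rk_eq hM1]; omega)

end Groth.Agent.CurveExt.RegularSub
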