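import Groth.Agent.HomShX.Basic
import Groth.Agent.Lib.CurveCanonical
import Groth.Agent.GeomField.GlobalFunctions
import Groth.Agent.CurveCohLib.SmoothCurve

/-!
# Extensions of bundles on a curve of genus one
-/

set_option linter.style.haveILetI false
set_option linter.unusedSectionVars false
set_option backward.isDefEq.respectTransparency false
set_option backward.isDefEq.respectTransparency.types false
set_option synthInstance.maxHeartbeats 100000

universe u

open CategoryTheory CategoryTheory.Limits AlgebraicGeometry TopologicalSpace Opposite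

namespace Groth.Agent.CurveExt

open Groth.Agent.CurveBundle Groth.Agent.CurveSlope Groth.Agent.CurveStable Groth.Agent.CurveDuality

variable {X : Scheme.{u}} (k : Type u) [Field k] [X.Over (Spec (CommRingCat.of k))] [IsIntegral X]
  [IsProper (X ↘ Spec (CommRingCat.of k))] [Smooth (X ↘ Spec (CommRingCat.of k))]

/-- A geometrically connected smooth proper curve has only constant functions. -/
theorem finrank_h0_structure [GeometricallyConnected (X ↘ Spec (CommRingCat.of k))] :
    Module.finrank k (Coh.HH X (Coh.structureModule X) 0) = 1 := by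
  haveI := GrpSchLib.geometricallyReduced_of_smooth (X ↘ Spec (CommRingCat.of k))
  exact (GeomField.finrank_HH_zero k X).trans (GeomField.finrank_globalFunctions_eq_one k X)

include k in
/-- In genus one an extension `0 → A → B → C → 0` of bundles splits if there is no map `A → C`. -/
theorem isSplitEpi_of_hom_eq_zero (hO : Module.finrank k (Coh.HH X (Coh.structureModule X) 0) = 1)
    (hdim : topologicalKrullDim X = 1) (hg : Curv2.genus k X = 1) {S : ShortComplex X.Modules}
    (hS : S.ShortExact) (h₁ : FlatMod.IsFinLocFree S.X₁) (h₃ : FlatMod.IsFinLocFree S.X₃)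
    (h : ∀ ψ : S.X₁ ⟶ S.X₃, ψ = 0) : IsSplitEpi S.g := by
  haveI := isLocallyNoetherian' k (X := X)
  obtain ⟨ω, μ, hω⟩ := exists_isDualizing k (X := X) hdim
  obtain ⟨e⟩ := nonempty_iso_of_genus_one k hO hω hdim hg
  refine HomShX.isSplitEpi_of_subsingleton hS h₃
    ((subsingleton_HH_one_iff k hω hdim (HomShX.isFinLocFree_homSh h₃ h₁)).2 fun φ => ?_)
  by_contra hφ
  obtain ⟨ψ, hψ⟩ := HomShX.exists_hom_ne_zero h₃ (φ ≫ e.inv) (fun h0 => hφ (by
    rw [← cancel_mono e.inv, h0, zero_comp]))
  exact hψ (h ψ)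

include k in
/-- In genus one an indecomposable bundle is semistable. -/
theorem semistable_of_indecomposable (hO : Module.finrank k (Coh.HH X (Coh.structureModule X) 0) = 1)
    (hdim : topologicalKrullDim X = 1) (hg : Curv2.genus k X = 1)
    {r : ℕ} (hr : 0 < r) {E : X.Modules} (hE : FlatMod.IsFinLocFreeOfRank r E)
    (hind : ∀ (E₁ E₂ : X.Modules), Nonempty (E ≅ E₁ ⊞ E₂) → IsZero E₁ ∨ IsZero E₂)
    {G : X.Modules} (i : G ⟶ E) [Mono i] (hG : FlatMod.IsFinLocFree G) (hG0 : 0 < rk G) :
    dg k G * (r : ℤ) ≤ dg k E * (rk G : ℤ) := by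
  haveI := isLocallyNoetherian' k (X := X)
  have hEf := isFinLocFree_of_rank hE
  have hEc := coh_of_free k hEf
  obtain ⟨F, i₁, hi₁, hpos, hF, hmax⟩ := exists_max_slope k hdim.le hr hE
  haveI := hi₁
  have hrp : (0 : ℤ) < r := by exact_mod_cast hr
  have hF0 : (0 : ℤ) < rk F := by exact_mod_cast hpos
  by_contra hlt
  push Not at hlt
  have hgt : dg k E * (rk F : ℤ) < dg k F * (r : ℤ) := by
    have h1 := mul_le_mul_of_nonneg_right (hmax G i inferInstance hG hG0).1 hrp.le
    have h2 := mul_lt_mul_of_pos_right hlt hF0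
    by_contra hc
    push Not at hc
    have h3 := mul_le_mul_of_nonneg_right hc (show (0 : ℤ) ≤ rk G by positivity)
    linarith
  have hFc := coh_of_free k hF
  have hS := shortExact_cokernel_of_mono i₁
  have hQc : Coh.IsCoh (cokernel i₁) := QCoh.isCoh_cokernel hFc.1 hEc i₁
  have hQ := isFinLocFree_of_max k hdim.le i₁ (cokernel.π i₁) _ hS hFc hEf hQc fun P g hg' hP hrP => by
    have := (hmax P g hg' hP (by rw [hrP]; exact hpos)).1
    rw [hrP] at this
    exact le_of_mul_le_mul_right this hF0
  have hQpos : 0 < rk (cokernel i₁) := by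
    by_contra hc
    have h1 := rk_add_coh k _ _ _ hS hEc
    have hrk : rk F = rk E := by omega
    have h2 : dg k F ≤ dg k E := by
      by_cases hiso : IsIso i₁
      · exact (dg_congr k (asIso i₁)).le
      · exact (dg_lt_of_rk_eq k hdim.le i₁ hFc hEc hrk hiso).le
    rw [hrk, rk_eq hE] at hgt
    have := mul_le_mul_of_nonneg_right h2 hrp.le
    linarith
  have hzero : ∀ ψ : F ⟶ cokernel i₁, ψ = 0 := fun ψ => by
    by_contra hψ
    obtain ⟨I, π, j, hj, -, -, hK, hI, hrk, hdg, hIpos, -⟩ := exists_decomp k hdim.le hF hQ ψ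
    haveI := hj
    obtain ⟨P, p, hp, hP, hrP, hdP⟩ := exists_preimage k hdim.le i₁ (cokernel.π i₁) _ hS hFc hEf hQc j
      (coh_of_free k hI)
    obtain ⟨h1, h2⟩ := hmax P p hp hP (by omega)
    have hI0 := hIpos hψ
    have h3 : dg k P * (rk F : ℤ) ≠ dg k F * (rk P : ℤ) := fun h => by
      have := h2 h
      omega
    have h4 : dg k (kernel ψ) * (rk F : ℤ) ≤ dg k F * (rk (kernel ψ) : ℤ) := by
      rcases isZero_or_pos k hK with hz | hz
      · rw [dg_eq_zero_of_isZero k hz, rk_eq_zero_of_isZero hz]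
        simp
      · exact (hmax _ (kernel.ι ψ ≫ i₁) inferInstance hK hz).1
    have h5 := lt_of_le_of_ne h1 h3
    rw [hrP, hdP] at h5
    have h6 : (rk F : ℤ) = (rk (kernel ψ) : ℤ) + (rk I : ℤ) := by exact_mod_cast hrk
    push_cast at h5
    have e1 := congrArg (fun z : ℤ => z * (rk F : ℤ)) hdg
    have e2 := congrArg (fun z : ℤ => dg k F * z) h6
    simp only [add_mul, mul_add] at e1 e2 h5
    linarith
  haveI := isSplitEpi_of_hom_eq_zero k hO hdim hg hS hF hQ hzero
  have hsp := ShortComplex.Splitting.ofExactOfSection _ hS.exact (section_ (cokernel.π i₁))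
    (IsSplitEpi.id (cokernel.π i₁)) inferInstance
  rcases hind F (cokernel i₁) ⟨hsp.isoBinaryBiproduct⟩ with hz | hz
  · rw [rk_eq_zero_of_isZero hz] at hpos
    omega
  · rw [rk_eq_zero_of_isZero hz] at hQpos
    omega

end Groth.Agent.CurveExt
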