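import Groth.Agent.CurveFF.Facts
import Groth.Agent.CurveBC.Main
import Groth.Agent.KZ.OpenExt
import Groth.Agent.CurveExt.GenusOne
import Groth.Agent.CurveCohLib.Clifford
import Groth.Agent.CurveCohLib.Hopf
import Groth.Agent.Lib.CurveSection
import Groth.Agent.Lib.CurveSSVanish
import Groth.Agent.SlopeBound.Basic
import Groth.Agent.GrpSchLib.SmoothRegular

/-!
# The equality case of Clifford's theorem
-/

set_option linter.style.haveILetI false
set_option linter.unusedSectionVars false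
set_option backward.isDefEq.respectTransparency false
set_option backward.isDefEq.respectTransparency.types false
set_option synthInstance.maxHeartbeats 100000
set_option maxHeartbeats 1600000

universe u

open CategoryTheory CategoryTheory.Limits AlgebraicGeometry TopologicalSpace Opposite
open Groth.Agent.PnCoh.Finite (mapLin)

noncomputable section

namespace Groth.Agent.CurveExt.Cliff

open Groth.Agent.CurveBundle Groth.Agent.CurveSlope Groth.Agent.CurveStable Groth.Agent.CurveDuality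
open Groth.Agent.CurveSpecial (homOfClass homOfClass_one homOfClass_smul)

variable {X : Scheme.{u}}

section Twist

variable (k : Type u) [Field k] [X.Over (Spec (CommRingCat.of k))]

theorem homOfClass_map {P Q : X.Modules} (f : P ⟶ Q) (t : Coh.HH X P 0) :
    homOfClass (mapLin k f 0 t) = homOfClass t ≫ f := by
  refine CurveRR.hom_ext_one ?_
  rw [homOfClass_one]
  refine (Sheaf.H.equiv₀_naturality isTerminalTop ((QCoh.toAbFunctor X).map f) t).symm.trans ?_
  show _ = f.app ⊤ ((homOfClass t).app ⊤ (H23.Frame.one ⊤))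
  rw [homOfClass_one]
  rfl

variable {L D M M' : X.Modules} (e : (DCoh.tensorBi.obj L).obj D ≅ Coh.structureModule X)

theorem homOfTwist_map (f : M ⟶ M') (t : Coh.HH X ((DCoh.tensorBi.obj D).obj M) 0) :
    homOfTwist e M' (mapLin k ((DCoh.tensorBi.obj D).map f) 0 t) = homOfTwist e M t ≫ f := by
  unfold homOfTwist
  rw [homOfClass_map, Functor.map_comp, Category.assoc, Category.assoc, Category.assoc]
  congr 2
  exact (CurveRR.cancelIso e).hom.naturality f

omit [Field k] [X.Over (Spec (CommRingCat.of k))] in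
theorem homOfTwist_add (s t : Coh.HH X ((DCoh.tensorBi.obj D).obj M) 0) :
    homOfTwist e M (s + t) = homOfTwist e M s + homOfTwist e M t := by
  unfold homOfTwist
  rw [CurveSpecial.homOfClass_add, Functor.map_add, Preadditive.add_comp, Preadditive.comp_add]

theorem homOfTwist_smul (a : k) (t : Coh.HH X ((DCoh.tensorBi.obj D).obj M) 0) :
    homOfTwist e M (a • t) = homOfTwist e M t ≫ Formal.smulMod k M a := by
  unfold homOfTwist
  rw [homOfClass_smul, Functor.map_comp,
    show (DCoh.tensorBi.obj L).map (Formal.smulMod k ((DCoh.tensorBi.obj D).obj M) a) =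
      Formal.smulMod k ((DCoh.tensorBi.obj L).obj ((DCoh.tensorBi.obj D).obj M)) a from
      CurveLinear.tensor_map_smul L _ _]
  simp only [Category.assoc]
  rw [FFun.smulMod_naturality]

/-- Maps out of `L` times a section. -/
def mulMap (I : X.Modules) (M' : X.Modules) (s : Coh.HH X ((DCoh.tensorBi.obj I).obj L) 0) :
    Coh.HH X ((DCoh.tensorBi.obj D).obj M') 0 →ₗ[k] Coh.HH X ((DCoh.tensorBi.obj I).obj M') 0 where
  toFun a := mapLin k ((DCoh.tensorBi.obj I).map (homOfTwist e M' a)) 0 s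
  map_add' a b := by rw [homOfTwist_add, Functor.map_add, CurveDuality.mapLin_add]
  map_smul' c a := by
    rw [RingHom.id_apply, homOfTwist_smul, Functor.map_comp, ← FFun.mapLin_comp,
      show (DCoh.tensorBi.obj I).map (Formal.smulMod k M' c) =
        Formal.smulMod k ((DCoh.tensorBi.obj I).obj M') c from CurveLinear.tensor_map_smul I _ _,
      FFun.mapLin_smulMod]

end Twist

theorem free_stalk_biprod {A B : X.Modules} (x : X) [Module.Free (X.presheaf.stalk x) (A.presheaf.stalk x)]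
    [Module.Free (X.presheaf.stalk x) (B.presheaf.stalk x)] :
    Module.Free (X.presheaf.stalk x) ((A ⊞ B).presheaf.stalk x) := by
  let F := DerSch.stalkFunctor X x
  let f₁ : F.obj (A ⊞ B) →ₗ[X.presheaf.stalk x] F.obj A := (F.map biprod.fst).hom
  let f₂ : F.obj (A ⊞ B) →ₗ[X.presheaf.stalk x] F.obj B := (F.map biprod.snd).hom
  let i₁ : F.obj A →ₗ[X.presheaf.stalk x] F.obj (A ⊞ B) := (F.map biprod.inl).hom
  let i₂ : F.obj B →ₗ[X.presheaf.stalk x] F.obj (A ⊞ B) := (F.map biprod.inr).hom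
  have h₁ : ∀ a, f₁ (i₁ a) = a := fun a => by
    show (F.map biprod.inl ≫ F.map biprod.fst).hom a = a
    rw [← F.map_comp, biprod.inl_fst, F.map_id]; rfl
  have h₂ : ∀ b, f₂ (i₂ b) = b := fun b => by
    show (F.map biprod.inr ≫ F.map biprod.snd).hom b = b
    rw [← F.map_comp, biprod.inr_snd, F.map_id]; rfl
  have h₃ : ∀ b, f₁ (i₂ b) = 0 := fun b => by
    show (F.map biprod.inr ≫ F.map biprod.fst).hom b = 0
    rw [← F.map_comp, biprod.inr_fst, F.map_zero]; rfl
  have h₄ : ∀ a, f₂ (i₁ a) = 0 := fun a => by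
    show (F.map biprod.inl ≫ F.map biprod.snd).hom a = 0
    rw [← F.map_comp, biprod.inl_snd, F.map_zero]; rfl
  have h₅ : ∀ v, i₁ (f₁ v) + i₂ (f₂ v) = v := fun v => by
    show (F.map biprod.fst ≫ F.map biprod.inl + F.map biprod.snd ≫ F.map biprod.inr).hom v = v
    rw [← F.map_comp, ← F.map_comp, ← F.map_add, biprod.total, F.map_id]; rfl
  exact Module.Free.of_equiv (M := A.presheaf.stalk x × B.presheaf.stalk x)
    (LinearEquiv.ofLinearMap (i₁.coprod i₂) (f₁.prod f₂) (LinearMap.ext fun v => h₅ v)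
      (LinearMap.ext fun ab => Prod.ext (by
        show f₁ (i₁ ab.1 + i₂ ab.2) = ab.1
        rw [map_add, h₁, h₃, add_zero]) (by
        show f₂ (i₁ ab.1 + i₂ ab.2) = ab.2
        rw [map_add, h₂, h₄, zero_add])) :
      (A.presheaf.stalk x × B.presheaf.stalk x) ≃ₗ[X.presheaf.stalk x] (A ⊞ B).presheaf.stalk x)

variable (k : Type u) [Field k] [IsAlgClosed k] [X.Over (Spec (CommRingCat.of k))]
  [IsIntegral X] [IsProper (X ↘ Spec (CommRingCat.of k))] [Smooth (X ↘ Spec (CommRingCat.of k))]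

include k in
theorem isFinLocFree_biprod {A B : X.Modules} (hA : FlatMod.IsFinLocFree A) (hB : FlatMod.IsFinLocFree B) :
    FlatMod.IsFinLocFree (A ⊞ B) := by
  haveI := CurveCohLib.isNoetherian_of_proper (k := k) (X := X)
  refine QCoh.isFinLocFree_iff.2 ⟨QCoh.isCoh_iff_isFP.1
    (KZ.isCoh_biprod (coh_of_free k hA) (coh_of_free k hB)), fun x => ?_⟩
  haveI := QCoh.free_stalk_of_isFinLocFree hA x
  haveI := QCoh.free_stalk_of_isFinLocFree hB x
  exact free_stalk_biprod x

variable (hdim : topologicalKrullDim X = 1)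
include hdim

/-- Clifford, in the range `[0, 2g]`. -/
theorem two_mul_h0_le {M : X.Modules} (hM : PicF.IsInvertible M) (hd : 0 ≤ Curv2.deg k X M 1)
    (hd' : Curv2.deg k X M 1 ≤ 2 * (Curv2.genus k X : ℤ)) :
    2 * (Module.finrank k (Coh.HH X M 0) : ℤ) ≤ Curv2.deg k X M 1 + 2 := by
  rcases Nat.eq_zero_or_pos (Module.finrank k (Coh.HH X M 0)) with h | h
  · rw [h]; omega
  rcases CurveCohLib.Clifford.dichotomy k hdim hM (m := Module.finrank k (Coh.HH X M 0) - 1) (by omega) with h' | h'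
  · omega
  · omega

/-- A module attaining equality in Clifford's theorem gives a pencil of degree two. -/
theorem exists_deg_two : ∀ (n : ℕ) {L : X.Modules}, PicF.IsInvertible L → Curv2.deg k X L 1 = (n : ℤ) →
    2 * (Module.finrank k (Coh.HH X L 0) : ℤ) = (n : ℤ) + 2 → 2 ≤ n →
    (n : ℤ) ≤ 2 * (Curv2.genus k X : ℤ) - 4 →
    ∃ N : X.Modules, PicF.IsInvertible N ∧ Curv2.deg k X N 1 = 2 ∧ 2 ≤ Module.finrank k (Coh.HH X N 0) := by
  haveI := CurveCohLib.isNoetherian_of_proper (k := k) (X := X)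
  intro n
  induction n using Nat.strong_induction_on with
  | _ n ih =>
  intro L hL hdL hL0 hn2 hn
  by_cases hn4 : n = 2
  · subst hn4
    exact ⟨L, hL, hdL, by omega⟩
  -- the residual module
  obtain ⟨L', hL', hdL', ⟨eL⟩⟩ := exists_inverse_deg k hdim hL
  let E : X.Modules := CohB1.tensorMod (CurveFF.Ωm k X) L'
  have hE : PicF.IsInvertible E := InvX.isInvertible_tensorMod (CurveFF.isInvertible_Ωm k X hdim) hL'
  have hdE : Curv2.deg k X E 1 = 2 * (Curv2.genus k X : ℤ) - 2 - n := by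
    refine (CurveRR.deg_tensor k hdim (CurveFF.isInvertible_Ωm k X hdim) hL').trans ?_
    rw [(CurveFF.canonical_invariants k X hdim).2, hdL', hdL]
    omega
  have hE0 : 2 * (Module.finrank k (Coh.HH X E 0) : ℤ) = Curv2.deg k X E 1 + 2 := by
    have h1 : Module.finrank k (Coh.HH X L 1) = Module.finrank k (Coh.HH X E 0) :=
      CurveFF.finrank_h1_eq k hdim hL eL
    have h2 := CurveCohLib.Clifford.deg_eq k hdim hL
    rw [h1, hdL] at h2
    rw [hdE]
    omega
  by_cases hlt : Curv2.deg k X E 1 < (n : ℤ)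
  · obtain ⟨e, he⟩ : ∃ e : ℕ, Curv2.deg k X E 1 = (e : ℤ) :=
      ⟨(Curv2.deg k X E 1).toNat, by omega⟩
    exact ih e (by omega) hE he (by omega) (by omega) (by omega)
  push Not at hlt
  -- a point and two sections vanishing there
  obtain ⟨p, hp, -⟩ := CurveTwist.exists_closed_notMem k hdim (Z := (∅ : Set X)) Set.finite_empty
  let I := CurvePoint.ptMod p hp
  have hI : PicF.IsInvertible I := CurvePoint.isInvertible_ptMod p hp k hdim
  obtain ⟨D, hD, hdD, ⟨eI⟩⟩ := exists_inverse_deg k hdim hI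
  let eD : (DCoh.tensorBi.obj D).obj I ≅ Coh.structureModule X := CurveTensor.commIso D I ≪≫ eI
  rw [CurvePoint.deg_ptMod p hp k] at hdD
  have hdown : ∀ {M : X.Modules}, PicF.IsInvertible M →
      Module.finrank k (Coh.HH X M 0) ≤ Module.finrank k (Coh.HH X ((DCoh.tensorBi.obj I).obj M) 0) + 1 := by
    intro M hM
    rw [← SlopeBound.finrank_h0_congr k (CurveTensor.commIso M I)]
    exact (CurvePoint.finrank_twist p hp k (InvEnd.isFinLocFreeOfRank_one hM)).1
  obtain ⟨s, hs⟩ : ∃ s : Coh.HH X ((DCoh.tensorBi.obj I).obj L) 0, s ≠ 0 := by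
    haveI := Module.nontrivial_of_finrank_pos (R := k)
      (M := Coh.HH X ((DCoh.tensorBi.obj I).obj L) 0) (by have := hdown hL; omega)
    exact exists_ne 0
  let Φ := mulMap k eL I E s
  obtain ⟨t, ht⟩ : ∃ t, t ∉ LinearMap.range Φ := by
    by_contra hc
    push Not at hc
    have hW : PicF.IsInvertible ((DCoh.tensorBi.obj L').obj E) := InvX.isInvertible_tensorMod hL' hE
    haveI := S0002.result k X _ (coh_of_free k (isFinLocFree_of_rank (InvEnd.isFinLocFreeOfRank_one hW))) 0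
    have hdW : Curv2.deg k X ((DCoh.tensorBi.obj L').obj E) 1 = Curv2.deg k X E 1 - n := by
      rw [CurveRR.deg_tensor k hdim hL' hE, hdL', hdL]
      ring
    have h1 := two_mul_h0_le k hdim hW (by omega) (by omega)
    have h2 := LinearMap.finrank_range_le Φ
    rw [LinearMap.range_eq_top.2 (fun t => hc t), finrank_top] at h2
    have h3 := hdown hE
    omega
  let s₁ : D ⟶ L := homOfTwist eD L s
  let t₁ : D ⟶ E := homOfTwist eD E t
  have hDf := isFinLocFree_of_rank (InvEnd.isFinLocFreeOfRank_one hD)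
  have hLf := isFinLocFree_of_rank (InvEnd.isFinLocFreeOfRank_one hL)
  have hEf := isFinLocFree_of_rank (InvEnd.isFinLocFreeOfRank_one hE)
  have hrD := rk_eq (InvEnd.isFinLocFreeOfRank_one hD)
  have hdgD : dg k D = 1 := by rw [← deg_eq_dg k (InvEnd.isFinLocFreeOfRank_one hD), hdD]; ring
  have hs₁ : s₁ ≠ 0 := homOfTwist_ne_zero eD hs
  haveI : Mono s₁ := CurveSection.mono_of_ne_zero k hdim.le hDf hrD hLf s₁ hs₁
  have ht₁ : t₁ ≠ 0 := homOfTwist_ne_zero eD (fun h => ht (h ▸ Submodule.zero_mem _))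
  let ι : D ⟶ L ⊞ E := biprod.lift s₁ t₁
  haveI : Mono ι := mono_of_mono_fac (biprod.lift_fst s₁ t₁)
  have hV := isFinLocFree_biprod k hLf hEf
  have hVc := coh_of_free k hV
  -- its saturation
  obtain ⟨d, ⟨G, g, hg, hG, hrG, ⟨l, hl⟩, rfl⟩, hmax⟩ := Int.exists_greatest_of_bdd
    (P := fun d => ∃ (G : X.Modules) (g : G ⟶ L ⊞ E), Mono g ∧ FlatMod.IsFinLocFree G ∧ rk G = 1 ∧
      (∃ l : D ⟶ G, l ≫ g = ι) ∧ dg k G = d)
    ⟨(Module.finrank k (Coh.HH X (L ⊞ E) 0) : ℤ) - ((1 : ℕ) : ℤ) * Curv2.euler k X (Coh.structureModule X),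
      fun d ⟨G, g, hg, hG, hrG, _, hd⟩ => by
        haveI := hg
        rw [← hd, ← hrG]
        exact dg_le_h0 k hdim.le g (coh_of_free k hG) hVc⟩
    ⟨_, D, ι, inferInstance, hDf, hrD, ⟨𝟙 _, Category.id_comp _⟩, rfl⟩
  haveI := hg
  have hG1 : FlatMod.IsFinLocFreeOfRank 1 G := hrG ▸ isFinLocFreeOfRank_rk hG
  have hGI := isInvertible_of_rank_one hG1
  have hdgG := deg_eq_dg k hG1
  have hge : (1 : ℤ) ≤ Curv2.deg k X G 1 := by
    rw [hdgG, ← hdgD]
    exact hmax _ ⟨D, ι, inferInstance, hDf, hrD, ⟨𝟙 _, Category.id_comp _⟩, rfl⟩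
  have hl₁ : l ≫ g ≫ biprod.fst = s₁ := by rw [← Category.assoc, hl, biprod.lift_fst]
  have hl₂ : l ≫ g ≫ biprod.snd = t₁ := by rw [← Category.assoc, hl, biprod.lift_snd]
  obtain ⟨hGL, hGL'⟩ := CurveDeg.deg_le_and_isIso k hdim.le hGI hL (g ≫ biprod.fst)
    (fun h => hs₁ (by rw [← hl₁, h, comp_zero]))
  obtain ⟨hGE, -⟩ := CurveDeg.deg_le_and_isIso k hdim.le hGI hE (g ≫ biprod.snd)
    (fun h => ht₁ (by rw [← hl₂, h, comp_zero]))
  rw [hdL] at hGL hGL'
  by_cases heq : Curv2.deg k X G 1 = (n : ℤ)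
  · exfalso
    haveI := hGL' heq
    obtain ⟨a, ha⟩ := exists_homOfTwist k eL (inv (g ≫ biprod.fst) ≫ g ≫ biprod.snd)
    refine ht ⟨a, ?_⟩
    have hΦ : homOfTwist eD E (Φ a) = t₁ := by
      show homOfTwist eD E (mapLin k ((DCoh.tensorBi.obj I).map (homOfTwist eL E a)) 0 s) = t₁
      rw [homOfTwist_map, ha, ← hl₂]
      show s₁ ≫ _ = _
      rw [← hl₁, Category.assoc, IsIso.hom_inv_id_assoc]
    by_contra hne
    refine homOfTwist_ne_zero eD (sub_ne_zero.2 (Ne.symm hne)) (add_eq_left.1 (?_ : homOfTwist eD E (Φ a) +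
      homOfTwist eD E (t - Φ a) = homOfTwist eD E (Φ a)))
    rw [← homOfTwist_add, add_sub_cancel, hΦ]
  -- the quotient
  have hGc := coh_of_free k hG
  have hS := shortExact_cokernel_of_mono g
  have hCc : Coh.IsCoh (cokernel g) := QCoh.isCoh_cokernel hGc.1 hVc g
  have hC := CurveSection.isFinLocFree_of_max_over k hdim.le g (cokernel.π g) _ hS hGc hV hCc
    fun P q hq hP hrP ⟨u, hu⟩ => hmax _ ⟨P, q, hq, hP, hrP.trans hrG, ⟨l ≫ u, by rw [Category.assoc, hu, hl]⟩, rfl⟩
  have hB := (ShortComplex.Splitting.ofHasBinaryBiproduct L E).shortExact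
  have r0 := rk_add_coh k _ _ _ hB hVc
  have d0 := dg_add k _ _ _ hB (coh_of_free k hLf) hVc (coh_of_free k hEf)
  rw [rk_eq (InvEnd.isFinLocFreeOfRank_one hL), rk_eq (InvEnd.isFinLocFreeOfRank_one hE)] at r0
  rw [← deg_eq_dg k (InvEnd.isFinLocFreeOfRank_one hL), ← deg_eq_dg k (InvEnd.isFinLocFreeOfRank_one hE), hdL] at d0
  have r1 := rk_add_coh k _ _ _ hS hVc
  have d1 := dg_add k _ _ _ hS hGc hVc hCc
  rw [r0, hrG] at r1
  have hC1 : FlatMod.IsFinLocFreeOfRank 1 (cokernel g) :=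
    (show rk (cokernel g) = 1 by omega) ▸ isFinLocFreeOfRank_rk hC
  rw [d0, ← hdgG, ← deg_eq_dg k hC1] at d1
  have h0C := two_mul_h0_le k hdim (isInvertible_of_rank_one hC1) (by omega) (by omega)
  have h0G := two_mul_h0_le k hdim hGI (by omega) (by omega)
  have hmid := finrank_h0_mid_le k (S := ShortComplex.mk g (cokernel.π g) (cokernel.condition g)) hS hVc hCc
  dsimp only at hmid
  have hsum : Module.finrank k (Coh.HH X L 0) + Module.finrank k (Coh.HH X E 0) ≤
      Module.finrank k (Coh.HH X (L ⊞ E) 0) := by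
    haveI := S0002.result k X (L ⊞ E) hVc 0
    haveI := S0002.result k X L (coh_of_free k hLf) 0
    haveI := S0002.result k X E (coh_of_free k hEf) 0
    have hsur : Function.Surjective ((mapLin k (biprod.fst : L ⊞ E ⟶ L) 0).prod (mapLin k (biprod.snd : L ⊞ E ⟶ E) 0)) := by
      rintro ⟨a, b⟩
      refine ⟨mapLin k (biprod.inl : L ⟶ L ⊞ E) 0 a + mapLin k (biprod.inr : E ⟶ L ⊞ E) 0 b, Prod.ext ?_ ?_⟩
      · show mapLin k biprod.fst 0 _ = a
        rw [map_add, FFun.mapLin_comp, FFun.mapLin_comp, biprod.inl_fst, biprod.inr_fst,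
          CurveDuality.mapLin_zero, add_zero, CurveDuality.mapLin_id]
      · show mapLin k biprod.snd 0 _ = b
        rw [map_add, FFun.mapLin_comp, FFun.mapLin_comp, biprod.inl_snd, biprod.inr_snd,
          CurveDuality.mapLin_zero, zero_add, CurveDuality.mapLin_id]
    have := LinearMap.finrank_le_finrank_of_surjective hsur
    rwa [Module.finrank_prod] at this
  obtain ⟨e, he⟩ : ∃ e : ℕ, Curv2.deg k X G 1 = (e : ℤ) := ⟨(Curv2.deg k X G 1).toNat, by omega⟩
  exact ih e (by omega) hGI he (by omega) (by omega) (by omega)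

/-- `h⁰(N^j) ≥ j + 1` for a pencil `N`. -/
theorem le_h0_tensorPow {N : X.Modules} (hN : PicF.IsInvertible N)
    (h2 : 2 ≤ Module.finrank k (Coh.HH X N 0)) (j : ℕ) :
    j + 1 ≤ Module.finrank k (Coh.HH X (CohB1.tensorPow N j) 0) := by
  induction j with
  | zero => exact (CurveCohLib.Clifford.finrank_h0_structure k (X := X)).ge
  | succ j ih =>
    obtain ⟨p, hp, -⟩ := CurveTwist.exists_closed_notMem k hdim (Z := (∅ : Set X)) Set.finite_empty
    haveI := GrpSchLib.isRegularLocalRing_stalk_of_smooth (X ↘ Spec (CommRingCat.of k)) p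
    have h := CurveCohLib.Hopf.finrank_tensor k hdim hp (H23.PicMul.isInvertible_tensorPow hN j) hN
      (Module.nontrivial_of_finrank_pos (R := k) (by omega)) (Module.nontrivial_of_finrank_pos (R := k) (by omega))
    show j + 1 + 1 ≤ Module.finrank k (Coh.HH X (CohB1.tensorMod (CohB1.tensorPow N j) N) 0)
    omega

theorem deg_tensorPow {N : X.Modules} (hN : PicF.IsInvertible N) (j : ℕ) :
    Curv2.deg k X (CohB1.tensorPow N j) 1 = (j : ℤ) * Curv2.deg k X N 1 := by
  induction j with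
  | zero => exact (CurveDeg.deg_structureModule k).trans (by simp)
  | succ j ih =>
    refine (CurveRR.deg_tensor k hdim (H23.PicMul.isInvertible_tensorPow hN j) hN).trans ?_
    rw [ih]
    push_cast
    ring

/-- A module attaining equality is a multiple of the pencil. -/
theorem nonempty_iso_tensorPow {N L : X.Modules} (hN : PicF.IsInvertible N) (hdN : Curv2.deg k X N 1 = 2)
    (h2 : 2 ≤ Module.finrank k (Coh.HH X N 0)) (hL : PicF.IsInvertible L) {r : ℕ}
    (hL0 : Module.finrank k (Coh.HH X L 0) = r + 1) (hdL : Curv2.deg k X L 1 = 2 * (r : ℤ))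
    (hr : r + 1 ≤ Curv2.genus k X) :
    Nonempty (L ≅ CohB1.tensorPow N r) := by
  obtain ⟨g₁, hg₁⟩ : ∃ j, Curv2.genus k X = r + (j + 1) := ⟨Curv2.genus k X - r - 1, by omega⟩
  have hO := CurveCohLib.Clifford.finrank_h0_structure k (X := X)
  have hNj := H23.PicMul.isInvertible_tensorPow hN g₁
  have hNr := H23.PicMul.isInvertible_tensorPow hN r
  obtain ⟨p, hp, -⟩ := CurveTwist.exists_closed_notMem k hdim (Z := (∅ : Set X)) Set.finite_empty
  haveI := GrpSchLib.isRegularLocalRing_stalk_of_smooth (X ↘ Spec (CommRingCat.of k)) p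
  have hj := le_h0_tensorPow k hdim hN h2 g₁
  have hr' := le_h0_tensorPow k hdim hN h2 r
  have key : ∀ {A : X.Modules}, PicF.IsInvertible A → r + 1 ≤ Module.finrank k (Coh.HH X A 0) →
      Curv2.deg k X A 1 = 2 * (r : ℤ) →
      Nonempty (CohB1.tensorMod A (CohB1.tensorPow N g₁) ≅ CurveFF.Ωm k X) := by
    intro A hA hA0 hdA
    have hd : Curv2.deg k X (CohB1.tensorMod A (CohB1.tensorPow N g₁)) 1 =
        Curv2.deg k X A 1 + Curv2.deg k X (CohB1.tensorPow N g₁) 1 := CurveRR.deg_tensor k hdim hA hNj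
    rw [hdA, deg_tensorPow k hdim hN, hdN] at hd
    have h := CurveCohLib.Hopf.finrank_tensor k hdim hp hA hNj
      (Module.nontrivial_of_finrank_pos (R := k) (by omega)) (Module.nontrivial_of_finrank_pos (R := k) (by omega))
    exact CurveBC.nonempty_iso_omega k X hdim hO (InvX.isInvertible_tensorMod hA hNj) (by rw [hd]; omega) (by omega)
  obtain ⟨e1⟩ := key hL hL0.ge hdL
  obtain ⟨e2⟩ := key hNr hr' (by rw [deg_tensorPow k hdim hN, hdN]; ring)
  obtain ⟨D, hD, -, ⟨d⟩⟩ := exists_inverse_deg k hdim hNj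
  have d' : CohB1.tensorMod (CohB1.tensorPow N g₁) D ≅ Coh.structureModule X := d
  obtain ⟨a⟩ := H23.PicMul.assoc L (CohB1.tensorPow N g₁) D
  obtain ⟨a'⟩ := H23.PicMul.assoc (CohB1.tensorPow N r) (CohB1.tensorPow N g₁) D
  obtain ⟨u⟩ := H23.PicMul.unit L
  obtain ⟨u'⟩ := H23.PicMul.unit (CohB1.tensorPow N r)
  exact ⟨u.symm ≪≫ PicGrp.tensorModIso (Iso.refl L) d'.symm ≪≫ a.symm ≪≫
    PicGrp.tensorModIso (e1 ≪≫ e2.symm) (Iso.refl D) ≪≫ a' ≪≫ PicGrp.tensorModIso (Iso.refl _) d' ≪≫ u'⟩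

end Groth.Agent.CurveExt.Cliff
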