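import Groth.Agent.HomShX.Prec
import Groth.Agent.CurveExt.GenusOne
import Groth.Agent.SlopeBound.Basic
import Groth.Agent.Lib.CurveTwist
import Groth.Agent.KFlatLib.Scheme.PullTensor

/-!
# Rank and degree of the sheaf Hom of bundles on a curve
-/

set_option linter.style.haveILetI false
set_option linter.unusedSectionVars false
set_option backward.isDefEq.respectTransparency false
set_option backward.isDefEq.respectTransparency.types false
set_option synthInstance.maxHeartbeats 100000
set_option maxHeartbeats 800000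

universe u

open CategoryTheory CategoryTheory.Limits AlgebraicGeometry TopologicalSpace Opposite
open Groth.Agent.PnCoh.Finite (mapLin)

noncomputable section

namespace Groth.Agent.CurveExt

open Groth.Agent.CurveBundle Groth.Agent.CurveSlope Groth.Agent.CurveStable Groth.Agent.CurveDuality
open RefHull (homSh)

variable {X : Scheme.{u}} (k : Type u) [Field k] [X.Over (Spec (CommRingCat.of k))] [IsIntegral X]
  [IsProper (X ↘ Spec (CommRingCat.of k))] [Smooth (X ↘ Spec (CommRingCat.of k))]

include k in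
/-- Invertible modules of arbitrarily large degree. -/
theorem exists_deg_ge (hdim : topologicalKrullDim X = 1) (d : ℤ) :
    ∃ N : X.Modules, PicF.IsInvertible N ∧ d ≤ Curv2.deg k X N 1 := by
  obtain ⟨p, hp, -⟩ := CurveTwist.exists_closed_notMem k hdim (Z := (∅ : Set X)) Set.finite_empty
  have hI := CurvePoint.isInvertible_ptMod p hp k hdim
  have hdI := CurveDuality.deg_ptMod_neg k p hp
  obtain ⟨D, hD, hdD, -⟩ := exists_inverse_deg k hdim hI
  induction d using Int.induction_on with
  | zero => exact ⟨_, CurveDeg.isInvertible_structureModule, (CurveDeg.deg_structureModule k).ge⟩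
  | succ i ih =>
    obtain ⟨L, hL, hd⟩ := ih
    exact ⟨_, InvX.isInvertible_tensorMod hL hD,
      le_of_le_of_eq (by rw [hdD]; omega) (CurveRR.deg_tensor k hdim hL hD).symm⟩
  | pred i ih =>
    obtain ⟨L, hL, hd⟩ := ih
    exact ⟨L, hL, by omega⟩

include k in
/-- A non-zero bundle has a line subbundle with locally free quotient. -/
theorem exists_line_quot (hdim : topologicalKrullDim X = 1) {V : X.Modules}
    (hV : FlatMod.IsFinLocFree V) (hpos : 0 < rk V) :
    ∃ (L : X.Modules) (i : L ⟶ V), Mono i ∧ PicF.IsInvertible L ∧ FlatMod.IsFinLocFree (cokernel i) := by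
  haveI := CurveCohLib.isNoetherian_of_proper (k := k) (X := X)
  obtain ⟨N, hN, hdN⟩ := exists_deg_ge k hdim
    (|dg k V| + |Curv2.euler k X (Coh.structureModule X)| + 1)
  have hVc := coh_of_free k hV
  have hW : FlatMod.IsFinLocFree ((DCoh.tensorBi.obj N).obj V) :=
    KFlatLib.isFinLocFree_tensor (isFinLocFree_of_rank (InvEnd.isFinLocFreeOfRank_one hN)) hV
  obtain ⟨hr, hd⟩ := dg_tensor_line k hdim hN hV
  have hχ : 0 < Curv2.euler k X ((DCoh.tensorBi.obj N).obj V) := by
    have hd' : Curv2.euler k X ((DCoh.tensorBi.obj N).obj V) -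
        (rk ((DCoh.tensorBi.obj N).obj V) : ℤ) * Curv2.euler k X (Coh.structureModule X) =
        dg k V + (rk V : ℤ) * Curv2.deg k X N 1 := hd
    rw [hr] at hd'
    have hp : (1 : ℤ) ≤ rk V := by exact_mod_cast hpos
    nlinarith [neg_abs_le (dg k V), abs_nonneg (dg k V),
      neg_abs_le (Curv2.euler k X (Coh.structureModule X)), abs_nonneg (Curv2.euler k X (Coh.structureModule X))]
  obtain ⟨s, hs⟩ := CurveRR.exists_hom_ne_zero k (P := (DCoh.tensorBi.obj N).obj V) (by
    have := euler_le_h0 k hdim.le (coh_of_free k hW)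
    omega)
  have hO := InvEnd.isFinLocFreeOfRank_one (CurveDeg.isInvertible_structureModule (X := X))
  haveI := CurveSection.mono_of_ne_zero k hdim.le (isFinLocFree_of_rank hO) (rk_eq hO) hW s hs
  obtain ⟨K', i', hi', hK', hrK', -⟩ := SlopeBound.exists_untwist k hdim hN (isFinLocFree_of_rank hO) s
  obtain ⟨d, ⟨L, i, hi, hL, hrL, rfl⟩, hmax⟩ := Int.exists_greatest_of_bdd
    (P := fun d => ∃ (L : X.Modules) (i : L ⟶ V), Mono i ∧ FlatMod.IsFinLocFree L ∧ rk L = 1 ∧ dg k L = d)
    ⟨(Module.finrank k (Coh.HH X V 0) : ℤ) - ((1 : ℕ) : ℤ) * Curv2.euler k X (Coh.structureModule X),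
      fun d ⟨L, i, hi, hL, hr, hd⟩ => by
        haveI := hi
        rw [← hd, ← hr]
        exact dg_le_h0 k hdim.le i (coh_of_free k hL) hVc⟩
    ⟨_, K', i', hi', hK', hrK'.trans (rk_eq hO), rfl⟩
  haveI := hi
  have hLc := coh_of_free k hL
  refine ⟨L, i, hi, isInvertible_of_rank_one (hrL ▸ isFinLocFreeOfRank_rk hL), ?_⟩
  exact isFinLocFree_of_max k hdim.le i (cokernel.π i) _ (shortExact_cokernel_of_mono i) hLc hV
    (QCoh.isCoh_cokernel hLc.1 hVc i) fun G g hg hG hrG => hmax _ ⟨G, g, hg, hG, hrG.trans hrL, rfl⟩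

omit [IsIntegral X] [X.Over (Spec (CommRingCat.of k))] [IsProper (X ↘ Spec (CommRingCat.of k))]
  [Smooth (X ↘ Spec (CommRingCat.of k))] in
theorem isZero_homSh {Q F : X.Modules} (hQ : IsZero Q) : IsZero (homSh Q F) := by
  rw [IsZero.iff_id_eq_zero]
  ext U g
  refine RefX.sect_ext fun x => ?_
  haveI : Subsingleton (Q.presheaf.stalk x.1) :=
    ModuleCat.subsingleton_of_isZero (Functor.map_isZero (DerSch.stalkFunctor X x.1) hQ)
  exact LinearMap.ext fun v => by rw [Subsingleton.elim v 0, map_zero, map_zero]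

include k in
/-- Rank and degree of the sheaf Hom of bundles. -/
theorem rk_dg_homSh (hdim : topologicalKrullDim X = 1) {F : X.Modules} (hF : FlatMod.IsFinLocFree F) :
    ∀ {Q : X.Modules}, FlatMod.IsFinLocFree Q →
      rk (homSh Q F) = rk Q * rk F ∧
        dg k (homSh Q F) = (rk Q : ℤ) * dg k F - (rk F : ℤ) * dg k Q := by
  haveI := CurveCohLib.isNoetherian_of_proper (k := k) (X := X)
  have main : ∀ (n : ℕ) {Q : X.Modules}, FlatMod.IsFinLocFree Q → rk Q = n →
      rk (homSh Q F) = rk Q * rk F ∧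
        dg k (homSh Q F) = (rk Q : ℤ) * dg k F - (rk F : ℤ) * dg k Q := by
    intro n
    induction n with
    | zero =>
      intro Q hQ hr
      have hz := isZero_of_rk_zero hQ hr
      have hz' := isZero_homSh (F := F) hz
      rw [rk_eq_zero_of_isZero hz', dg_eq_zero_of_isZero k hz', dg_eq_zero_of_isZero k hz, hr]
      simp
    | succ n ih =>
      intro Q hQ hr
      obtain ⟨L, i, hi, hL, hC⟩ := exists_line_quot k hdim hQ (by omega)
      haveI := hi
      have hS := shortExact_cokernel_of_mono i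
      have hL1 := InvEnd.isFinLocFreeOfRank_one hL
      have hLf := isFinLocFree_of_rank hL1
      have hQc := coh_of_free k hQ
      have r1 := rk_add_coh k _ _ _ hS hQc
      have d1 := dg_add k _ _ _ hS (coh_of_free k hLf) hQc (coh_of_free k hC)
      rw [rk_eq hL1] at r1
      obtain ⟨r3, d3⟩ := ih hC (by omega)
      obtain ⟨D, hD, hdD, ⟨e⟩⟩ := exists_inverse_deg k hdim hL
      haveI := HomShX.isIso_pairHom hL1 (M := (DCoh.tensorBi.obj D).obj F) ((CurveRR.cancelIso e).app F).hom
      let ψ := asIso (HomShX.pairHom (A := L) (M := (DCoh.tensorBi.obj D).obj F) ((CurveRR.cancelIso e).app F).hom)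
      obtain ⟨r2, d2⟩ := dg_tensor_line k hdim hD hF
      rw [rk_congr ψ] at r2
      rw [dg_congr k ψ] at d2
      simp only [Functor.id_obj] at r2 d2
      have hT := HomShX.shortExact_prec F hS hLf hQ hC
      have hc : ∀ {P : X.Modules}, FlatMod.IsFinLocFree P → Coh.IsCoh (homSh P F) := fun hP =>
        coh_of_free k (HomShX.isFinLocFree_homSh hP hF)
      have r4 := rk_add_coh k _ _ _ hT (hc hQ)
      have d4 := dg_add k _ _ _ hT (hc hC) (hc hQ) (hc hLf)
      dsimp only at r4 d4 r1 d1
      rw [r3, r2] at r4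
      rw [d3, d2, hdD] at d4
      rw [← deg_eq_dg k hL1] at d1
      refine ⟨by rw [r4, r1]; ring, ?_⟩
      rw [d4, d1, r1]
      push_cast
      ring
  exact fun {Q} hQ => main _ hQ rfl

include k in
/-- A positive Euler characteristic gives a morphism. -/
theorem exists_hom_ne_zero_of_rr (hdim : topologicalKrullDim X = 1) {Q F : X.Modules}
    (hQ : FlatMod.IsFinLocFree Q) (hF : FlatMod.IsFinLocFree F)
    (h : 0 < (rk Q : ℤ) * dg k F - (rk F : ℤ) * dg k Q +
      (rk Q : ℤ) * (rk F : ℤ) * Curv2.euler k X (Coh.structureModule X)) : ∃ ψ : Q ⟶ F, ψ ≠ 0 := by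
  haveI := CurveCohLib.isNoetherian_of_proper (k := k) (X := X)
  obtain ⟨hr, hd⟩ := rk_dg_homSh k hdim hF hQ
  have hd' : Curv2.euler k X (homSh Q F) -
      (rk (homSh Q F) : ℤ) * Curv2.euler k X (Coh.structureModule X) =
      (rk Q : ℤ) * dg k F - (rk F : ℤ) * dg k Q := hd
  rw [hr] at hd'
  push_cast at hd'
  have h0 := euler_le_h0 k hdim.le (coh_of_free k (HomShX.isFinLocFree_homSh hQ hF))
  obtain ⟨t, ht⟩ : ∃ t : Coh.HH X (homSh Q F) 0, t ≠ 0 := by
    by_contra hc
    push Not at hc
    haveI : Subsingleton (Coh.HH X (homSh Q F) 0) := subsingleton_of_forall_eq 0 hc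
    rw [Module.finrank_zero_of_subsingleton] at h0
    push_cast at h0
    linarith
  let g : Γ(homSh Q F, ⊤) := Sheaf.H.equiv₀ (Coh.toAb (homSh Q F)) isTerminalTop t
  refine ⟨HomShX.toHom g, fun h0' => ht ?_⟩
  refine (Sheaf.H.equiv₀ (Coh.toAb (homSh Q F)) isTerminalTop).injective (((RefX.sect_ext fun x => ?_) : g = 0).trans (map_zero _).symm)
  rw [← HomShX.stalkMapₗ_toHom g x.1, h0', HomShX.stalkMapₗ_zero]
  rfl

end Groth.Agent.CurveExt
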