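import Groth.Agent.CurveBC.Main
import Groth.Agent.CurveFF.Omega
import Groth.Agent.SlopeBound.Basic
import Groth.Agent.Lib.CurveSpecial
import Groth.Agent.Lib.CurveCanonical
import Groth.Agent.H23.PicMul
import Groth.Agent.InvX.Tensor

/-!
# Secants of maximal order of a canonically twisted curve
-/

set_option linter.style.haveILetI false
set_option linter.unusedSectionVars false
set_option backward.isDefEq.respectTransparency false
set_option backward.isDefEq.respectTransparency.types false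
set_option synthInstance.maxHeartbeats 100000
set_option maxHeartbeats 800000

universe u

open CategoryTheory CategoryTheory.Limits AlgebraicGeometry TopologicalSpace Opposite

noncomputable section

namespace Groth.Agent.CurveExt

open Groth.Agent.CurveBundle Groth.Agent.CurveSlope Groth.Agent.CurveStable Groth.Agent.CurveDuality

variable {X : Scheme.{u}} (k : Type u) [Field k] [IsAlgClosed k] [X.Over (Spec (CommRingCat.of k))]
  [IsIntegral X] [IsProper (X ↘ Spec (CommRingCat.of k))] [Smooth (X ↘ Spec (CommRingCat.of k))]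

include k in
theorem h0_line (hdim : topologicalKrullDim X = 1) {M : X.Modules} (hM : PicF.IsInvertible M)
    (hd : 2 * (Curv2.genus k X : ℤ) - 1 ≤ Curv2.deg k X M 1) :
    (Module.finrank k (Coh.HH X M 0) : ℤ) = Curv2.deg k X M 1 + 1 - Curv2.genus k X := by
  rw [SlopeBound.finrank_h0_eq k hdim (isFinLocFree_of_rank (InvEnd.isFinLocFreeOfRank_one hM))
    (CurveSpecial.subsingleton_HH_one_of_deg k hdim hM hd), (SlopeBound.dg_line k hM).1, (SlopeBound.dg_line k hM).2]
  push_cast
  ring

include k in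
/-- If `I ⊗ K ⊗ N` has the invariants of the canonical module, `I` is inverse to `N`. -/
theorem nonempty_iso_of_secant (hdim : topologicalKrullDim X = 1) {K : X.Modules}
    (eK : K ≅ Omega.sheaf (X ↘ Spec (CommRingCat.of k))) {I N : X.Modules}
    (hI : PicF.IsInvertible I) (hN : PicF.IsInvertible N)
    (hd : Curv2.deg k X I 1 + Curv2.deg k X N 1 = 0)
    (h0 : Curv2.genus k X ≤ Module.finrank k (Coh.HH X (CohB1.tensorMod I (CohB1.tensorMod K N)) 0)) :
    Nonempty (CohB1.tensorMod I N ≅ Coh.structureModule X) := by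
  haveI : ConnectedSpace X := inferInstance
  have hO := CurveCohLib.finrank_h0_eq_one k X
  have hΩ := CurveFF.isInvertible_Ωm k X hdim
  have hK : PicF.IsInvertible K := H23.PicMul.isInvertible_of_iso eK.symm hΩ
  have hKN : PicF.IsInvertible (CohB1.tensorMod K N) := H23.PicMul.isInvertible_tensor hK hN
  have hdK : Curv2.deg k X K 1 = 2 * (Curv2.genus k X : ℤ) - 2 := by
    rw [CurveRR.deg_congr k eK]
    exact (CurveBC.canonical_invariants k X hdim hO).2
  have hdeg : Curv2.deg k X (CohB1.tensorMod I (CohB1.tensorMod K N)) 1 = 2 * (Curv2.genus k X : ℤ) - 2 := by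
    refine (CurveRR.deg_tensor k hdim hI hKN).trans ?_
    rw [show Curv2.deg k X (CohB1.tensorMod K N) 1 = _ from CurveRR.deg_tensor k hdim hK hN, hdK]
    omega
  obtain ⟨e⟩ := CurveBC.nonempty_iso_omega k X hdim hO (H23.PicMul.isInvertible_tensor hI hKN) hdeg h0
  obtain ⟨D, -, -, ⟨d⟩⟩ := exists_inverse_deg k hdim hK
  obtain ⟨c⟩ := H23.PicMul.comm K N
  obtain ⟨a⟩ := H23.PicMul.assoc I N K
  obtain ⟨a'⟩ := H23.PicMul.assoc (CohB1.tensorMod I N) K D
  obtain ⟨u⟩ := H23.PicMul.unit (CohB1.tensorMod I N)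
  have d' : CohB1.tensorMod K D ≅ Coh.structureModule X := d
  let e' : CohB1.tensorMod (CohB1.tensorMod I N) K ≅ K :=
    a ≪≫ PicGrp.tensorModIso (Iso.refl I) c.symm ≪≫ e ≪≫ eK.symm
  exact ⟨u.symm ≪≫ PicGrp.tensorModIso (Iso.refl _) d'.symm ≪≫ a'.symm ≪≫
    PicGrp.tensorModIso e' (Iso.refl D) ≪≫ d'⟩

include k in
/-- An ideal inverse to `N` gives a section of `N`. -/
theorem finrank_h0_pos_of_inverse (hdim : topologicalKrullDim X = 1) {I N : X.Modules}
    (hN : PicF.IsInvertible N) (e : CohB1.tensorMod I N ≅ Coh.structureModule X)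
    (ι : I ⟶ Coh.structureModule X) [Mono ι] :
    0 < Module.finrank k (Coh.HH X N 0) := by
  haveI := CurveCohLib.isNoetherian_of_proper (k := k) (X := X)
  haveI : ConnectedSpace X := inferInstance
  have hNf := isFinLocFree_of_rank (InvEnd.isFinLocFreeOfRank_one hN)
  haveI : Mono ((DCoh.tensorBi.obj N).map ι) :=
    (CurveTensor.shortExact_tensor hNf ι (cokernel.π ι) (cokernel.condition ι) (shortExact_cokernel_of_mono ι)).mono_f
  obtain ⟨c⟩ := H23.PicMul.comm N I
  let c' : (DCoh.tensorBi.obj N).obj I ≅ Coh.structureModule X := c ≪≫ e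
  have h := SlopeBound.finrank_h0_mono k (c'.inv ≫ (DCoh.tensorBi.obj N).map ι ≫ (KFlatLib.tensorUnitIso N).hom)
    (coh_of_free k hNf)
  rw [CurveCohLib.finrank_h0_eq_one k X] at h
  exact h

include k in
/-- Two ideals inverse to a module with one section are equal. -/
theorem exists_iso_comp_eq (hdim : topologicalKrullDim X = 1) {I I' N : X.Modules}
    (hI' : PicF.IsInvertible I') (e : CohB1.tensorMod I N ≅ Coh.structureModule X)
    (e' : CohB1.tensorMod I' N ≅ Coh.structureModule X)
    (h1 : Module.finrank k (Coh.HH X N 0) = 1) (ι : I ⟶ Coh.structureModule X) (hι : ι ≠ 0)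
    (ι' : I' ⟶ Coh.structureModule X) (hι' : ι' ≠ 0) :
    ∃ φ : I' ≅ I, φ.hom ≫ ι = ι' := by
  obtain ⟨a⟩ := H23.PicMul.assoc I' I N
  obtain ⟨a'⟩ := H23.PicMul.assoc I I' N
  obtain ⟨c⟩ := H23.PicMul.comm I' I
  obtain ⟨u⟩ := H23.PicMul.unit I
  obtain ⟨u'⟩ := H23.PicMul.unit I'
  let φ₀ : I' ≅ I := u'.symm ≪≫ PicGrp.tensorModIso (Iso.refl I') e.symm ≪≫ a.symm ≪≫
    PicGrp.tensorModIso c (Iso.refl N) ≪≫ a' ≪≫ PicGrp.tensorModIso (Iso.refl I) e' ≪≫ u
  have e₁ : (DCoh.tensorBi.obj I').obj N ≅ Coh.structureModule X := e'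
  have hι₀ : φ₀.hom ≫ ι ≠ 0 := fun h => hι (by rw [← cancel_epi φ₀.hom, h, comp_zero])
  obtain ⟨t, ht⟩ := exists_homOfTwist k e₁ (φ₀.hom ≫ ι)
  obtain ⟨t', ht'⟩ := exists_homOfTwist k e₁ ι'
  have hz : homOfTwist e₁ (Coh.structureModule X) 0 = 0 := by
    unfold homOfTwist
    have : CurveSpecial.homOfClass (0 : Coh.HH X ((DCoh.tensorBi.obj N).obj (Coh.structureModule X)) 0) = 0 := by
      have h := CurveSpecial.homOfClass_add (0 : Coh.HH X ((DCoh.tensorBi.obj N).obj (Coh.structureModule X)) 0) 0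
      rw [add_zero] at h
      exact left_eq_add.1 h
    rw [this, Functor.map_zero, zero_comp, comp_zero]
  have ht0 : t ≠ 0 := fun h => hι₀ (by rw [← ht, h, hz])
  have h1' : Module.finrank k (Coh.HH X ((DCoh.tensorBi.obj N).obj (Coh.structureModule X)) 0) = 1 := by
    rw [SlopeBound.finrank_h0_congr k (KFlatLib.tensorUnitIso N)]; exact h1
  obtain ⟨c, hc⟩ := (finrank_eq_one_iff_of_nonzero' t ht0).1 h1' t'
  have key : Formal.smulMod k I' c ≫ φ₀.hom ≫ ι = ι' := by
    rw [← ht', ← hc, ← ht]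
    unfold homOfTwist
    rw [CurveSpecial.homOfClass_smul, Functor.map_comp,
      show (DCoh.tensorBi.obj I').map (Formal.smulMod k ((DCoh.tensorBi.obj N).obj (Coh.structureModule X)) c) =
        Formal.smulMod k ((DCoh.tensorBi.obj I').obj ((DCoh.tensorBi.obj N).obj (Coh.structureModule X))) c from
        CurveLinear.tensor_map_smul I' _ _]
    simp only [Category.assoc]
    rw [← Category.assoc (Formal.smulMod k I' c), FFun.smulMod_naturality, Category.assoc,
      ← Category.assoc (Formal.smulMod k _ c), FFun.smulMod_naturality, Category.assoc]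
  haveI := (CurveDeg.deg_le_and_isIso k hdim.le hI' hI' (Formal.smulMod k I' c)
    (fun h => hι' (by rw [← key, h, zero_comp]))).2 rfl
  exact ⟨asIso (Formal.smulMod k I' c) ≪≫ φ₀, by rw [Iso.trans_hom, asIso_hom, Category.assoc, key]⟩

end Groth.Agent.CurveExt
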