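import Groth.Agent.CurveExt.GenusOne
import Groth.Agent.KZ.CohClass

/-!
# The self-extension of the structure sheaf on a curve of genus one is unique
-/

set_option linter.style.haveILetI false
set_option linter.unusedSectionVars false
set_option backward.isDefEq.respectTransparency false
set_option backward.isDefEq.respectTransparency.types false
set_option synthInstance.maxHeartbeats 100000
set_option maxHeartbeats 800000

universe u

open CategoryTheory CategoryTheory.Limits AlgebraicGeometry TopologicalSpace Opposite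
open Groth.Agent.PnCoh.Finite (mapLin deltaLin)

noncomputable section

namespace Groth.Agent.CurveExt

open Groth.Agent.CurveBundle Groth.Agent.CurveSlope Groth.Agent.CurveStable Groth.Agent.CurveDuality
open Groth.Agent.CurveSpecial (homOfClass homOfClass_one homOfClass_ne_zero)

variable {X : Scheme.{u}} (k : Type u) [Field k] [X.Over (Spec (CommRingCat.of k))] [IsIntegral X]
  [IsProper (X ↘ Spec (CommRingCat.of k))] [Smooth (X ↘ Spec (CommRingCat.of k))]

include k in
/-- If a quotient `O` catches a new section, the extension splits. -/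
theorem isSplitEpi_of_h0_lt (hdim : topologicalKrullDim X ≤ 1) {A B : X.Modules} (f : A ⟶ B)
    (g : B ⟶ Coh.structureModule X) (w : f ≫ g = 0) (hS : (ShortComplex.mk f g w).ShortExact)
    (h : Module.finrank k (Coh.HH X A 0) < Module.finrank k (Coh.HH X B 0)) : IsSplitEpi g := by
  have hne : LinearMap.range (mapLin k f 0) ≠ ⊤ := fun hr => by
    have h1 := LinearMap.finrank_range_of_inj (f := mapLin k f 0)
      (CurveCohLib.mapLin_f_zero_injective (A := k) (S := ShortComplex.mk f g w) hS)
    rw [hr, finrank_top] at h1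
    omega
  obtain ⟨t, ht⟩ : ∃ t, mapLin k g 0 t ≠ 0 := by
    by_contra hc
    push Not at hc
    refine hne ?_
    rw [← CurveCohLib.ker_mapLin_g (A := k) (S := ShortComplex.mk f g w) hS 0]
    exact eq_top_iff.2 fun t _ => LinearMap.mem_ker.2 (hc t)
  have e : homOfClass t ≫ g = homOfClass (mapLin k g 0 t) := CurveRR.hom_ext_one (by
    rw [homOfClass_one]
    show g.app ⊤ ((homOfClass t).app ⊤ (H23.Frame.one ⊤)) = _
    rw [homOfClass_one]
    exact Sheaf.H.equiv₀_naturality isTerminalTop ((QCoh.toAbFunctor X).map g) t)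
  haveI := (CurveDeg.deg_le_and_isIso k hdim CurveDeg.isInvertible_structureModule
    CurveDeg.isInvertible_structureModule (homOfClass t ≫ g)
    (by rw [e]; exact homOfClass_ne_zero ht)).2 rfl
  exact ⟨⟨⟨inv (homOfClass t ≫ g) ≫ homOfClass t, by simp⟩⟩⟩

include k in
/-- In genus one two non-split self-extensions of `O` are isomorphic. -/
theorem nonempty_iso_of_selfExt (hO : Module.finrank k (Coh.HH X (Coh.structureModule X) 0) = 1)
    (hdim : topologicalKrullDim X = 1) (hg : Curv2.genus k X = 1) {E E' : X.Modules}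
    (i : Coh.structureModule X ⟶ E) (π : E ⟶ Coh.structureModule X) (w : i ≫ π = 0)
    (hS : (ShortComplex.mk i π w).ShortExact) (hns : ¬ IsSplitEpi π)
    (i' : Coh.structureModule X ⟶ E') (π' : E' ⟶ Coh.structureModule X) (w' : i' ≫ π' = 0)
    (hS' : (ShortComplex.mk i' π' w').ShortExact) (hns' : ¬ IsSplitEpi π') :
    Nonempty (E ≅ E') := by
  haveI := CurveCohLib.isNoetherian_of_proper (k := k) (X := X)
  haveI : Mono i := hS.mono_f
  haveI : Mono i' := hS'.mono_f
  haveI : Epi π := hS.epi_g
  haveI : Epi π' := hS'.epi_g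
  have hOc : Coh.IsCoh (Coh.structureModule X) := QCoh.isCoh_structureModule'
  have hEc : Coh.IsCoh E := KZ.isCoh_X₂ hS hOc hOc
  have hE'c : Coh.IsCoh E' := KZ.isCoh_X₂ hS' hOc hOc
  have hχO : Curv2.euler k X (Coh.structureModule X) = 0 := by
    rw [euler_structure k hO hdim, hg]; simp
  -- the push-out
  let P := pushout i i'
  let g : P ⟶ Coh.structureModule X := pushout.desc π 0 (by rw [w, comp_zero])
  let g' : P ⟶ Coh.structureModule X := pushout.desc 0 π' (by rw [w', comp_zero])
  have hg1 : pushout.inl i i' ≫ g = π := pushout.inl_desc _ _ _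
  have hg2 : pushout.inr i i' ≫ g = 0 := pushout.inr_desc _ _ _
  have hg1' : pushout.inl i i' ≫ g' = 0 := pushout.inl_desc _ _ _
  have hg2' : pushout.inr i i' ≫ g' = π' := pushout.inr_desc _ _ _
  haveI : Mono (pushout.inr i i') := inferInstance
  haveI : Epi g := epi_of_epi_fac hg1
  have hT : (ShortComplex.mk (pushout.inr i i') g hg2).ShortExact :=
    { exact := ShortComplex.exact_of_g_is_cokernel _ (CokernelCofork.IsColimit.ofπ g hg2
        (fun {Z} l hl => hS.gIsCokernel.desc (CokernelCofork.ofπ (pushout.inl i i' ≫ l) (by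
          show i ≫ pushout.inl i i' ≫ l = 0
          rw [← Category.assoc, pushout.condition, Category.assoc, hl, comp_zero])))
        (fun {Z} l hl => by
          have hfac := hS.gIsCokernel.fac (CokernelCofork.ofπ (pushout.inl i i' ≫ l) (by
            show i ≫ pushout.inl i i' ≫ l = 0
            rw [← Category.assoc, pushout.condition, Category.assoc, hl, comp_zero])) WalkingParallelPair.one
          refine pushout.hom_ext ?_ ?_
          · rw [← Category.assoc, hg1]
            exact hfac
          · rw [← Category.assoc, hg2, zero_comp, hl])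
        (fun {Z} l hl m hm => by
          rw [← cancel_epi π]
          refine Eq.trans ?_ (hS.gIsCokernel.fac (CokernelCofork.ofπ (pushout.inl i i' ≫ l) (by
            show i ≫ pushout.inl i i' ≫ l = 0
            rw [← Category.assoc, pushout.condition, Category.assoc, hl, comp_zero]))
            WalkingParallelPair.one).symm
          show π ≫ m = pushout.inl i i' ≫ l
          rw [← hm, ← Category.assoc, hg1])) }
  have hPc : Coh.IsCoh P := KZ.isCoh_X₂ hT hE'c hOc
  have hχ : ∀ {M : X.Modules} (a : Coh.structureModule X ⟶ M) (b : M ⟶ Coh.structureModule X) (hw : a ≫ b = 0),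
      (ShortComplex.mk a b hw).ShortExact → Coh.IsCoh M → Curv2.euler k X M = 0 := fun a b hw h hM => by
    rw [euler_add' k a b hw h hOc hM hOc, hχO, add_zero]
  have hχP : Curv2.euler k X P = 0 := by
    rw [euler_add' k _ g hg2 hT hE'c hPc hOc, hχ i' π' w' hS' hE'c, hχO, add_zero]
  -- first cohomology of the push-out
  have hsurj : ∀ {M : X.Modules} (a : Coh.structureModule X ⟶ M) (b : M ⟶ Coh.structureModule X) (hw : a ≫ b = 0),
      (ShortComplex.mk a b hw).ShortExact → Function.Surjective (mapLin k b 1) := fun a b hw h y => by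
    haveI : Subsingleton (Coh.HH X (Coh.structureModule X) 2) :=
      CurveVanish.subsingleton_HH_curve k hdim.le hOc.1 0
    have h1 : y ∈ LinearMap.ker (deltaLin k h 1) := LinearMap.mem_ker.2 (Subsingleton.elim _ _)
    rwa [CurveCohLib.ker_deltaLin (A := k) (S := ShortComplex.mk a b hw) h 1] at h1
  haveI := S0002.result k X P hPc 1
  haveI := S0002.result k X (Coh.structureModule X) hOc 1
  have hP1 : 2 ≤ Module.finrank k (Coh.HH X P 1) := by
    have hs : Function.Surjective ((mapLin k g 1).prod (mapLin k g' 1)) := by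
      rintro ⟨a, b⟩
      obtain ⟨x, rfl⟩ := hsurj i π w hS a
      obtain ⟨y, rfl⟩ := hsurj i' π' w' hS' b
      refine ⟨mapLin k (pushout.inl i i') 1 x + mapLin k (pushout.inr i i') 1 y, ?_⟩
      refine Prod.ext ?_ ?_
      · show mapLin k g 1 _ = _
        rw [map_add, FFun.mapLin_comp, FFun.mapLin_comp, FFun.mapLin_congr (A := k) hg1,
          FFun.mapLin_congr (A := k) hg2, CurveDuality.mapLin_zero, add_zero]
      · show mapLin k g' 1 _ = _
        rw [map_add, FFun.mapLin_comp, FFun.mapLin_comp, FFun.mapLin_congr (A := k) hg1',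
          FFun.mapLin_congr (A := k) hg2', CurveDuality.mapLin_zero, zero_add]
    have h2 := LinearMap.finrank_le_finrank_of_surjective hs
    rw [Module.finrank_prod] at h2
    have h1 : Module.finrank k (Coh.HH X (Coh.structureModule X) 1) = 1 := hg
    omega
  -- sections
  have h0' : Module.finrank k (Coh.HH X E' 0) ≤ 1 := by
    by_contra hc
    exact hns' (isSplitEpi_of_h0_lt k hdim.le i' π' w' hS' (by rw [hO]; omega))
  haveI : IsSplitEpi g := isSplitEpi_of_h0_lt k hdim.le _ g hg2 hT (by
    rw [euler_eq k hdim hPc] at hχP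
    omega)
  let hsp := ShortComplex.Splitting.ofExactOfSection _ hT.exact (section_ g) (IsSplitEpi.id g) inferInstance
  have hr : pushout.inr i i' ≫ hsp.r = 𝟙 E' := hsp.f_r
  let φ : E ⟶ E' := pushout.inl i i' ≫ hsp.r
  have hφ : i ≫ φ = i' := by
    show i ≫ pushout.inl i i' ≫ hsp.r = i'
    rw [← Category.assoc, pushout.condition, Category.assoc, hr, Category.comp_id]
  obtain ⟨ψ, hψ⟩ := CokernelCofork.IsColimit.desc' hS.gIsCokernel (φ ≫ π')
    (by show i ≫ φ ≫ π' = 0; rw [← Category.assoc, hφ, w'])
  replace hψ : π ≫ ψ = φ ≫ π' := hψ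
  by_cases hψ0 : ψ = 0
  · exfalso
    obtain ⟨l, hl⟩ := KernelFork.IsLimit.lift' hS'.fIsKernel φ
      (by show φ ≫ π' = 0; rw [← hψ, hψ0, comp_zero])
    replace hl : l ≫ i' = φ := hl
    have hil : i ≫ l = 𝟙 _ := by rw [← cancel_mono i', Category.assoc, hl, hφ, Category.id_comp]
    let sp := ShortComplex.Splitting.ofExactOfRetraction (ShortComplex.mk i π w) hS.exact l hil inferInstance
    exact hns ⟨⟨⟨sp.s, sp.s_g⟩⟩⟩
  · haveI := (CurveDeg.deg_le_and_isIso k hdim.le CurveDeg.isInvertible_structureModule
      CurveDeg.isInvertible_structureModule ψ hψ0).2 rfl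
    let m : ShortComplex.mk i π w ⟶ ShortComplex.mk i' π' w' :=
      { τ₁ := 𝟙 _, τ₂ := φ, τ₃ := ψ
        comm₁₂ := by show 𝟙 _ ≫ i' = i ≫ φ; rw [Category.id_comp, hφ]
        comm₂₃ := hψ.symm }
    haveI : IsIso m.τ₁ := inferInstanceAs (IsIso (𝟙 _))
    haveI : IsIso m.τ₃ := inferInstanceAs (IsIso ψ)
    haveI : IsIso m.τ₂ := ShortComplex.isIso₂_of_shortExact_of_isIso₁₃ m hS hS'
    exact ⟨asIso m.τ₂⟩

end Groth.Agent.CurveExt
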